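import Groth.Agent.DimFormula.Scheme
import Groth.Agent.BlowUpLib.Basic
import Mathlib.AlgebraicGeometry.Noetherian

/-!
Closed fibres of modifications of local domains are small; blow-ups of integral schemes are integral.
-/

set_option autoImplicit false
set_option linter.style.haveILetI false

universe u

open CategoryTheory AlgebraicGeometry TopologicalSpace
open Groth.Agent Groth.Agent.Unibranch Groth.Agent.DimFormula

namespace Groth.Agent.W7Fib

theorem length_le_of_chain {A : Type u} [CommRing A] {n : ℕ} (c : Fin (n + 1) → Spec (CommRingCat.of A))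
    (hc : ∀ i : Fin n, c i.castSucc ⤳ c i.succ ∧ c i.castSucc ≠ c i.succ) :
    (n : WithBot ℕ∞) ≤ ringKrullDim A := by
  let l : LTSeries (PrimeSpectrum A) :=
    { length := n
      toFun := c
      step := fun i =>
        lt_of_le_of_ne ((PrimeSpectrum.le_iff_specializes _ _).mpr (hc i).1) (hc i).2 }
  exact Order.LTSeries.length_le_krullDim l

/-- The closed fibre of an integral scheme of finite type over a local domain, which is an isomorphism over
a non-empty open, has dimension less than that of the base. -/
theorem dim_closedFibre_le {A : Type u} [CommRing A] [IsDomain A] [IsNoetherianRing A] [IsLocalRing A]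
    {X : Scheme.{u}} [IsIntegral X] (f : X ⟶ Spec (CommRingCat.of A)) [LocallyOfFiniteType f]
    (U : (Spec (CommRingCat.of A)).Opens) (hU : (U : Set (Spec (CommRingCat.of A))).Nonempty) [IsIso (f ∣_ U)]
    {d : ℕ} (hd : ringKrullDim A ≤ (d + 1 : ℕ)) :
    topologicalKrullDim ↥(f.fiber (IsLocalRing.closedPoint A)) ≤ d := by
  let η : Spec (CommRingCat.of A) := genericPoint _
  have hgen : ∀ y : Spec (CommRingCat.of A), η ⤳ y := fun y => genericPoint_specializes y
  have hηU : η ∈ U := ((genericPoint_spec _).mem_open_set_iff U.2).mpr (by simpa using hU)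
  let ζ : X := genericPoint X
  obtain ⟨p, hp⟩ := (f ∣_ U).surjective ⟨η, hηU⟩
  have hp' : f p.1 = η := by
    have := congrArg Subtype.val hp
    rwa [morphismRestrict_base_coe] at this
  have hfζ : f ζ = η :=
    ((((genericPoint_specializes p.1).map f.continuous).trans (specializes_of_eq hp')).antisymm (hgen _)).eq
  have hinj : ∀ y : X, f y = η → y = ζ := by
    intro y hy
    have hemb := (f ∣_ U).homeomorph.injective
    have : (⟨y, show f y ∈ U from hy ▸ hηU⟩ : (f ⁻¹ᵁ U).toScheme) = ⟨ζ, show f ζ ∈ U from hfζ ▸ hηU⟩ := by
      refine hemb (Subtype.ext ?_)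
      show ((f ∣_ U) _).val = ((f ∣_ U) _).val
      rw [morphismRestrict_base_coe, morphismRestrict_base_coe]
      exact hy.trans hfζ.symm
    exact congrArg Subtype.val this
  let s : Spec (CommRingCat.of A) := IsLocalRing.closedPoint A
  refine (topologicalKrullDim_le_iff f (S := Set.univ) (y := s) (f.fiberι s).isEmbedding
    (by rw [Set.univ_inter]; exact f.range_fiberι s)).mpr ?_
  intro k c hc hch
  by_cases hne : ζ = c 0
  · rcases k with _ | k
    · exact Nat.zero_le _
    have hηs : η = s := by rw [← hfζ, hne]; exact (hc 0).2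
    exact absurd ((hinj _ ((hc (Fin.castSucc 0)).2.trans hηs.symm)).trans
      (hinj _ ((hc (Fin.succ 0)).2.trans hηs.symm)).symm) (hch 0).2
  have hspec : ∀ i : Fin (k + 1), c 0 ⤳ c i := fun i => by
    induction i using Fin.induction with
    | zero => exact specializes_rfl
    | succ i hi => exact hi.trans (hch i).1
  have hle := dimension_inequality f (ζ := ζ) (x := c 0) (genericPoint_specializes _) (a := 1) (c := d + 1)
    (d := k) (e := 0)
    ⟨![ζ, c 0], fun i => by fin_cases i; exact ⟨genericPoint_specializes _, hne⟩, specializes_rfl, rfl⟩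
    (fun n c' h1 _ _ => by
      have := (length_le_of_chain c' h1).trans hd
      exact_mod_cast this)
    ⟨c, fun i => ⟨specializes_iff_mem_closure.mp (hspec i), (hc i).2.trans (hc 0).2.symm⟩, hch⟩
    (fun n c' h1 h2 => by
      rcases n with _ | n
      · exact le_rfl
      exact absurd ((hinj _ ((h1 _).2.trans hfζ)).trans (hinj _ ((h1 _).2.trans hfζ)).symm) (h2 0).2)
  omega

/-- The generic point of an integral scheme avoids the support of a non-zero ideal. -/
theorem genericPoint_notMem_support {Y : Scheme.{u}} [IsIntegral Y] {I : Y.IdealSheafData} (hI : I ≠ ⊥) :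
    genericPoint Y ∉ I.support := by
  intro h
  apply hI
  refine eq_bot_iff.mpr ?_
  have htop : I.support = ⊤ := by
    refine SetLike.coe_injective (Set.eq_univ_of_forall fun y => ?_)
    exact (genericPoint_specializes y).mem_closed I.support.isClosed h
  calc I ≤ I.radical := I.le_radical
    _ = Scheme.IdealSheafData.vanishingIdeal I.support := Scheme.IdealSheafData.vanishingIdeal_support.symm
    _ = ⊥ := by
      rw [htop, ← Scheme.IdealSheafData.support_bot, Scheme.IdealSheafData.vanishingIdeal_support]
      rw [Scheme.IdealSheafData.radical_bot, Scheme.nilradical_eq_bot]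

/-- A blow-up of an integral scheme in a non-zero ideal is integral. -/
theorem isIntegral_blowUp {X Y : Scheme.{u}} [IsIntegral Y] {I : Y.IdealSheafData} (hI : I ≠ ⊥)
    {b : X ⟶ Y} (hb : BlowUp.IsBlowUp b I) : IsIntegral X := by
  haveI := BlowUpLib.isReduced_blowUp hb
  obtain ⟨-, hinj, hsurj⟩ := BlowUpLib.bijOn_maximalPts hb
  have hmax : ∀ y : Y, (∀ z : Y, z ⤳ y → z = y) → y = genericPoint Y := fun y hy =>
    (hy _ (genericPoint_specializes y)).symm
  obtain ⟨x₀, hx₀, hbx₀⟩ := hsurj (a := genericPoint Y)
    ⟨fun y hy => (hy.antisymm (genericPoint_specializes y)).eq, genericPoint_notMem_support hI⟩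
  haveI : Nonempty X := ⟨x₀⟩
  have hall : ∀ x : X, x₀ ⤳ x := by
    intro x
    obtain ⟨g, hg⟩ : ∃ g, IsGenericPoint g (irreducibleComponent x) :=
      QuasiSober.sober isIrreducible_irreducibleComponent isClosed_irreducibleComponent
    have hgm : ∀ z : X, z ⤳ g → z = g := by
      intro z hz
      have h1 : irreducibleComponent x ⊆ closure {z} := by
        rw [← hg.def]
        exact closure_minimal (Set.singleton_subset_iff.mpr (specializes_iff_mem_closure.mp hz)) isClosed_closure
      have h2 := (irreducibleComponent_mem_irreducibleComponents x).2 isIrreducible_singleton.closure h1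
      exact (hz.antisymm (hg.specializes (h2 (subset_closure rfl)))).eq
    have hgmax := hgm
    obtain rfl : g = x₀ := hinj hgmax hx₀ (by
      show b g = b x₀
      refine Eq.trans ?_ hbx₀.symm
      exact hmax _ (((BlowUpLib.bijOn_maximalPts hb).mapsTo hgmax).1))
    exact hg.specializes mem_irreducibleComponent
  haveI : IrreducibleSpace X := by
    refine { isPreirreducible_univ := ?_, toNonempty := ‹_› }
    have : closure ({x₀} : Set X) = Set.univ :=
      Set.eq_univ_of_forall fun x => specializes_iff_mem_closure.mp (hall x)
    exact this ▸ isIrreducible_singleton.closure.2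
  exact isIntegral_of_irreducibleSpace_of_isReduced X

end Groth.Agent.W7Fib
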